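import Cfsg.Agent.Helper3.Fam.D5610

/-!
Orbit and stabilizer certificates (machine generated): M24: the centralizer of an involution fixing an octad, affine labels
-/

set_option autoImplicit false

namespace Cfsg.Agent.Helper3

open Cfsg
open scoped Pointwise

def zc1G : List ℕ := [38890377462829101374645495555527, 19696111446527262930024203490291989875]

def zc1X : List ℕ := [768, 67584, 139264, 278528, 524352, 1048608, 4227072, 10485760]

def zc1A0 : ℕ := 0xc000002080001001000c00000208000120000040400002201664cf020005a000004080001000200800400440000220000108000003000000000000009000004001002000200808000600000100400082000060003a54f802000688000044000020004010080002010001002000c0000022004e89ce041007840000480000204000120000010200008040002020000900635f1105000b8200004008002020001400000801000180000040200002400ead0f04000781000040200020080010004008002004020002800000410041df0e05000980800060000010020008400004004003000000280000012041df0e03100e804000400040240000102000088000020020010100000a002b09dd01100d80200041000022000010400008020004002000880000014062e2a701000d80080042000021000018000004010000a000004200000060b9833a041003800200400020200100108000082000050000020040004800f5a10e0300028001005000002002000a0000040800014000008020002040538b8b02100580004040400028000011000004800002020000210000082088fa3306100a800020400200300000090000042000024000008100000840888d7b061008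

def zc1A : ℕ := zc1A0

def zc1C : List (ℕ × List ℕ × List (ℕ × ℕ)) :=
  [(0, [620363883429954325180052405055047, 7145691247456758107649201325816086190827148640], [(0, 0), (1, 0), (1, 4), (0, 10), (1, 10), (0, 1), (1, 1)]),
   (1, [918941775652522134633805297969686850457939], [(0, 1), (0, 2), (0, 3), (0, 12), (0, 10), (0, 7)]),
   (2, [25526160434804262079611980424432143369170, 257244884908443291875371161334455053148776973889], [(0, 2), (1, 2), (0, 3), (1, 3), (0, 4)]),
   (5, [1001300707837603598863, 16671553490447529516117, 32322633336831929449227], [(0, 5), (2, 5), (1, 13), (2, 13), (1, 6), (0, 9), (2, 9), (1, 15), (0, 19), (2, 19), (2, 16), (0, 18), (2, 18), (2, 22), (2, 23)]),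
   (3, [16671553490447529516117, 60544824830090196345868577021], [(0, 3), (1, 3), (1, 10)])]

theorem zc1_ok : (fOrb [q10AX] (gFam zc1X)).ncard = 15 ∧ Nat.card (fSub (zc1X :: [q10AX]) 0) = 21504 :=
  aOrb_card [q10AX] zc1X 322560 15 21504 zc1G 8 240 zc1A zc1C q10A_ok.2 (by decide +kernel)

def zW : List ℕ := [2, 1, 3, 3, 2, 0, 3, 0, 3, 0, 4, 1, 2, 1]

def zD0 : ℕ := 2220640

def zD1 : ℕ := 16771936

def zD2 : ℕ := 1009728

def zD3 : ℕ := 1256224

def zD4 : ℕ := 4645632

def zF0 : ℕ := 21

def zF1 : ℕ := 23

def zF2 : ℕ := 19

def zF3 : ℕ := 20

def zF4 : ℕ := 22

def zU : List ℕ := [0, 0, 0, 0, 0, 1161, 135, 0, 5137, 147, 0, 27, 0, 1026, 5249, 4107, 1045, 4103, 1037, 0, 0, 0, 0, 0]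

def zClose : List (ℕ × List ℕ × List ℕ) :=
  [(0, [52005, 175681], []),
   (1, [352547], []),
   (2, [52005], []),
   (3, [213833], []),
   (4, [10558], []),
   (7, [84464], []),
   (10, [18147], []),
   (12, [5279], [])]

end Cfsg.Agent.Helper3
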