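import Cfsg.Agent.Helper3.Fam.D1602

/-!
Orbit and stabilizer certificates (machine generated): the stabilizer of three points of a dodecad in its stabilizer
-/

set_option autoImplicit false

namespace Cfsg.Agent.Helper3

open Cfsg
open scoped Pointwise

def q191G : List ℕ := [91185701141661956723757478663766044, 1543469309455111036455944016336248006538324618994]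

def q191X : List ℕ := [2]

def q191A0 : ℕ := 0x40000000000021009010000000000010000002000000000011000001000000000031004000200000000030004000100000000020009000040000000020008000010000000040002000008000000031005000004000000021008000002000000000000

def q191A : ℕ := q191A0

def q191C : List (ℕ × List ℕ × List (ℕ × ℕ)) :=
  [(2, [17232330096774822332924035575361, 133998598820895476266343483243474497], [(0, 2), (0, 4), (1, 4), (1, 16), (1, 13), (0, 8), (0, 3), (1, 9), (1, 18)]),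
   (3, [21965484204387420383303600788509972101, 219900643285996444301], [(0, 3), (0, 4), (1, 4), (0, 13), (0, 16), (1, 16), (1, 9), (0, 8)]),
   (4, [219900643285996444301, 470796557880409472877230927868741], [(0, 4), (1, 4), (0, 16), (1, 16), (0, 18), (0, 12), (1, 12)])]

theorem q191_ok : (fOrb [q022X, q021X] (gFam q191X)).ncard = 11 ∧ Nat.card (fSub (q191X :: [q022X, q021X]) 0) = 720 :=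
  aOrb_card [q022X, q021X] q191X 7920 11 720 q191G 1 72 q191A q191C q022_ok.2 (by decide +kernel)

def q192G : List ℕ := [25304542412844879284552468351, 6048390489410405745217554662977, 25526160434783939600415478116621694994151]

def q192X : List ℕ := [4]

def q192A0 : ℕ := 0x40000000000011000010000000000022002002000000000031004001000000000032005000200000000021009000100000000020009000040000000030004000010000000012000000008000000032004000004000000000000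

def q192A : ℕ := q192A0

def q192C : List (ℕ × List ℕ × List (ℕ × ℕ)) :=
  [(3, [251340796826916853402092797, 91185701137903167361631560581200837], [(0, 3), (1, 3), (0, 12), (0, 4), (1, 4), (0, 18), (1, 18), (0, 8)]),
   (4, [363268948974198711762737702025, 470796557880409472877230927868741], [(0, 4), (1, 4), (0, 9), (1, 9), (0, 18), (0, 12), (1, 12)])]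

theorem q192_ok : (fOrb [q191X, q022X, q021X] (gFam q192X)).ncard = 10 ∧ Nat.card (fSub (q192X :: [q191X, q022X, q021X]) 0) = 72 :=
  aOrb_card [q191X, q022X, q021X] q192X 720 10 72 q192G 1 72 q192A q192C q191_ok.2 (by decide +kernel)

def m9W9 : List (List ℕ) :=
  [[],
   [4, 2, 0, 4, 1, 3, 3, 1, 2, 3, 3, 2, 1, 3, 3, 0, 0, 0, 3, 1, 1, 2, 0, 4, 1, 4, 0, 0, 0, 3, 2, 1, 4, 0],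
   [4, 4, 0, 0, 3, 0, 4, 0, 0, 0, 0, 4, 0, 2, 1, 3, 2, 0, 0, 3, 2, 0, 3, 3, 1, 1, 3, 0, 0, 3, 1, 4, 1, 2, 0, 4],
   [0, 0, 0, 4, 0, 2, 0, 0, 0, 0, 0, 0, 0, 0, 3, 3, 1, 2, 1, 1, 1, 3, 0, 4, 0, 0, 3, 0, 4, 2, 0, 3, 0, 3, 0, 4, 1, 1, 4, 0, 0, 4, 4],
   [4, 1, 4, 1, 4, 0, 4, 0, 2, 1, 3, 2, 0, 0, 3, 2, 0, 0, 4, 1, 4, 2, 1, 3, 0, 4, 0, 3, 0, 4, 1, 3, 1, 1, 3, 0, 0, 3, 1, 4, 1, 2, 0, 4],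
   [0, 0, 2, 1, 4, 4, 2, 1, 3, 0, 4, 1, 1, 4, 0, 4, 2, 0, 4, 2, 1, 3, 0, 4, 2, 1, 1, 1, 3, 0, 3, 1, 3, 3, 1, 1, 3, 0, 0, 3, 1, 4, 1, 2, 0, 4],
   [2, 0, 4, 4, 0, 3, 1, 3, 0, 0, 4, 1, 3, 2, 0, 0, 0, 0, 4, 1, 2, 1, 4, 0, 4, 2, 1, 4, 4, 1, 4, 0, 3, 1, 1, 3, 3, 1, 1, 3, 0, 0, 3, 1, 4, 1, 2, 0, 4],
   [2, 1, 1, 4, 1, 4, 1, 3, 0, 2, 0, 0, 0, 3, 3, 1, 2, 1, 1, 1, 1, 3, 1, 2, 0, 4, 0, 4, 4, 1, 4, 4, 2, 0, 0, 0, 3, 3, 1, 1, 3, 0, 0, 3, 1, 4, 1, 2, 0, 4],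
   [4, 1, 4, 2, 0, 0, 0, 3, 1, 3, 0, 3, 2, 0, 4, 1, 3, 0, 0, 4, 1, 2, 3, 1, 2, 0, 4, 0, 4, 4, 1, 4, 4, 2, 0, 0, 0, 3, 1, 2, 0, 3, 0, 4, 1, 1, 4, 0, 0, 4, 4]]

def m9W63 : List (List ℕ) :=
  [[3, 3, 1, 4, 1, 1, 1, 3, 0, 3, 3, 0],
   [4, 2, 0, 4, 1, 3, 3, 1, 2, 3, 2, 0, 0, 3, 3, 1, 3, 3, 0, 2],
   [4, 2, 0, 4, 1, 3, 3, 1, 2, 3, 2, 0, 0, 0, 0, 3, 0, 4, 1, 1, 4, 2],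
   [2, 1, 1, 4, 1, 4, 1, 3, 0, 2, 3, 3, 2, 1, 3, 3, 0, 0, 0, 3, 1, 1, 2],
   [4, 1, 4, 0, 0, 0, 3, 2, 1, 4, 0, 0, 0, 0, 4, 0, 3, 3, 2, 0, 0, 3, 1, 1, 3, 0, 0],
   [4, 2, 0, 4, 1, 3, 0, 4, 0, 0, 3, 0, 0, 4, 2, 0, 4, 1, 4, 0, 0, 0, 3, 2, 1, 4, 0],
   [0, 3, 0, 4, 1, 1, 4, 0, 4, 2, 0, 4, 2, 3, 1, 4, 2, 1, 3, 2, 1, 4, 1, 1, 3, 1, 4, 1],
   [0, 0, 0, 4, 0, 2, 0, 0, 0, 0, 0, 0, 0, 0, 2, 1, 4, 4, 2, 1, 1, 4, 1, 4, 0, 0, 0, 3, 2, 1, 4, 0],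
   [2, 0, 4, 4, 0, 3, 1, 3, 2, 0, 0, 4, 0, 2, 1, 3, 2, 0, 0, 3, 2, 3, 0, 4, 2, 1, 1, 1, 3, 0, 3, 1],
   [2, 1, 1, 4, 1, 4, 1, 3, 0, 2, 4, 1, 4, 0, 0, 0, 3, 2, 1, 4, 0, 3, 0, 4, 2, 1, 1, 1, 3, 0, 3, 1],
   [0, 0, 2, 1, 4, 4, 2, 1, 1, 2, 0, 0, 4, 0, 4, 1, 3, 1, 3, 3, 1, 3, 3, 2, 0, 3, 0, 3, 0, 4, 1, 2, 1],
   [4, 1, 4, 1, 4, 1, 3, 2, 0, 0, 0, 0, 3, 0, 4, 1, 1, 4, 2, 3, 0, 3, 1, 4, 1, 3, 1, 4, 0, 3, 2, 0, 3, 1],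
   [4, 1, 4, 2, 0, 0, 0, 3, 1, 3, 1, 1, 1, 4, 1, 3, 0, 4, 4, 0, 3, 3, 1, 1, 3, 0, 0, 3, 1, 4, 1, 2, 0, 4],
   [2, 0, 4, 4, 0, 3, 1, 3, 2, 0, 4, 1, 4, 0, 0, 0, 3, 2, 1, 4, 0, 3, 3, 1, 1, 3, 0, 0, 3, 1, 4, 1, 2, 0, 4],
   [2, 0, 4, 4, 0, 3, 1, 3, 2, 3, 2, 0, 0, 3, 3, 1, 3, 3, 0, 2, 1, 1, 1, 3, 3, 2, 0, 3, 3, 1, 3, 1, 2, 0, 4],
   [2, 1, 1, 4, 1, 4, 1, 3, 0, 2, 3, 2, 0, 4, 1, 3, 0, 0, 4, 1, 2, 3, 1, 3, 1, 3, 3, 0, 3, 1, 1, 1, 3, 2, 0],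
   [2, 1, 1, 4, 1, 4, 1, 3, 0, 2, 4, 1, 4, 1, 3, 3, 2, 1, 1, 4, 2, 3, 0, 4, 0, 0, 3, 0, 4, 2, 0, 3, 2, 0, 4],
   [4, 1, 4, 1, 4, 1, 3, 1, 4, 2, 1, 3, 2, 1, 4, 1, 1, 3, 1, 4, 1, 3, 3, 1, 1, 3, 0, 0, 3, 1, 4, 1, 2, 0, 4],
   [2, 0, 4, 4, 0, 3, 1, 3, 2, 4, 1, 4, 0, 0, 0, 3, 2, 1, 4, 0, 0, 3, 1, 2, 0, 4, 0, 4, 4, 1, 4, 4, 2, 0, 0, 0],
   [4, 4, 0, 0, 3, 0, 4, 0, 0, 3, 3, 1, 4, 1, 1, 1, 3, 0, 3, 3, 0, 4, 1, 4, 1, 1, 3, 3, 1, 3, 0, 4, 1, 4, 1, 4],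
   [4, 4, 0, 0, 3, 0, 4, 0, 0, 2, 0, 0, 4, 1, 3, 2, 0, 0, 0, 0, 4, 1, 2, 1, 4, 0, 4, 2, 1, 4, 4, 1, 4, 0, 3, 1, 1],
   [2, 0, 3, 1, 1, 4, 0, 3, 1, 4, 2, 0, 4, 1, 4, 2, 1, 3, 0, 4, 0, 3, 0, 4, 1, 1, 2, 0, 3, 0, 4, 1, 1, 4, 0, 0, 4, 4],
   [4, 1, 4, 2, 0, 0, 0, 3, 1, 3, 0, 4, 1, 4, 1, 1, 3, 3, 1, 3, 0, 4, 1, 4, 1, 1, 2, 0, 3, 0, 4, 1, 1, 4, 0, 0, 4, 4],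
   [4, 1, 4, 2, 0, 0, 0, 3, 1, 3, 0, 4, 1, 4, 1, 3, 3, 2, 1, 1, 4, 2, 1, 1, 1, 1, 3, 3, 2, 0, 3, 3, 1, 3, 1, 2, 0, 4],
   [0, 0, 2, 1, 4, 4, 2, 1, 1, 4, 1, 3, 1, 4, 2, 0, 0, 4, 4, 2, 0, 4, 0, 3, 0, 3, 1, 2, 0, 3, 0, 4, 1, 1, 4, 0, 0, 4, 4],
   [3, 2, 0, 0, 0, 0, 3, 0, 4, 1, 1, 4, 1, 3, 3, 2, 0, 3, 0, 3, 0, 4, 1, 2, 1, 3, 1, 2, 0, 3, 0, 4, 1, 1, 4, 0, 0, 4, 4],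
   [2, 0, 0, 4, 0, 4, 1, 3, 1, 3, 3, 2, 3, 1, 3, 1, 3, 3, 0, 3, 1, 1, 1, 3, 2, 0, 3, 1, 2, 0, 3, 0, 4, 1, 1, 4, 0, 0, 4, 4],
   [4, 1, 4, 1, 4, 1, 2, 0, 4, 0, 4, 0, 0, 3, 0, 0, 4, 2, 0, 3, 0, 4, 0, 0, 3, 0, 4, 2, 0, 3, 0, 3, 0, 4, 1, 1, 4, 0, 0, 4, 4],
   [2, 0, 0, 4, 1, 3, 2, 0, 0, 0, 0, 4, 1, 4, 4, 1, 4, 4, 2, 1, 3, 3, 0, 0, 3, 1, 4, 1, 3, 1, 2, 0, 3, 0, 4, 1, 1, 4, 0, 0, 4, 4],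
   [4, 4, 0, 0, 3, 0, 4, 0, 3, 3, 1, 4, 0, 3, 0, 0, 0, 3, 0, 4, 2, 1, 1, 1, 3, 0, 3, 1, 3, 3, 1, 1, 3, 0, 0, 3, 1, 4, 1, 2, 0, 4],
   [0, 0, 0, 4, 0, 2, 0, 4, 1, 3, 0, 4, 4, 0, 4, 4, 1, 4, 4, 2, 1, 3, 3, 0, 0, 3, 1, 4, 1, 3, 3, 1, 1, 3, 0, 0, 3, 1, 4, 1, 2, 0, 4],
   [4, 1, 4, 2, 0, 0, 0, 3, 1, 3, 0, 2, 0, 3, 1, 1, 4, 0, 3, 1, 4, 2, 1, 1, 1, 3, 3, 2, 0, 3, 3, 1, 3, 3, 0, 4, 1, 1, 4, 0, 0, 4, 4],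
   [4, 4, 0, 0, 3, 0, 4, 1, 1, 4, 1, 3, 0, 4, 4, 0, 4, 1, 4, 1, 1, 3, 3, 1, 3, 0, 4, 1, 4, 1, 3, 1, 1, 3, 0, 0, 3, 1, 4, 1, 2, 0, 4],
   [4, 1, 4, 1, 4, 1, 2, 0, 3, 1, 1, 4, 0, 3, 1, 4, 1, 4, 0, 4, 2, 1, 4, 4, 1, 4, 0, 3, 1, 1, 3, 3, 1, 1, 3, 0, 0, 3, 1, 4, 1, 2, 0, 4],
   [4, 1, 4, 1, 4, 1, 3, 2, 0, 4, 1, 3, 0, 0, 4, 1, 2, 4, 1, 4, 1, 1, 3, 3, 1, 3, 0, 4, 1, 4, 1, 3, 1, 1, 3, 0, 0, 3, 1, 4, 1, 2, 0, 4],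
   [4, 2, 0, 4, 1, 3, 3, 0, 4, 0, 4, 1, 3, 1, 3, 3, 2, 4, 1, 4, 1, 1, 3, 3, 1, 3, 0, 4, 1, 4, 1, 3, 1, 1, 3, 0, 0, 3, 1, 4, 1, 2, 0, 4],
   [0, 0, 2, 1, 4, 4, 2, 0, 3, 3, 1, 2, 1, 1, 1, 1, 3, 1, 4, 2, 1, 3, 2, 1, 4, 1, 1, 3, 1, 4, 1, 3, 1, 2, 0, 3, 0, 4, 1, 1, 4, 0, 0, 4, 4],
   [2, 0, 4, 4, 0, 3, 1, 3, 0, 3, 1, 1, 4, 0, 3, 1, 4, 2, 0, 4, 1, 4, 2, 1, 3, 0, 4, 0, 3, 0, 4, 1, 3, 1, 1, 3, 0, 0, 3, 1, 4, 1, 2, 0, 4],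
   [4, 1, 4, 1, 4, 1, 2, 0, 0, 4, 0, 4, 1, 3, 1, 3, 3, 2, 0, 3, 0, 4, 0, 0, 3, 0, 4, 2, 0, 3, 2, 0, 3, 1, 1, 3, 0, 0, 3, 1, 4, 1, 2, 0, 4],
   [4, 2, 0, 4, 1, 3, 3, 1, 2, 4, 1, 4, 0, 0, 0, 3, 2, 1, 4, 0, 3, 0, 4, 2, 1, 1, 1, 3, 0, 3, 1, 3, 3, 1, 1, 3, 0, 0, 3, 1, 4, 1, 2, 0, 4],
   [0, 0, 2, 1, 4, 4, 2, 1, 1, 3, 2, 0, 4, 1, 3, 0, 0, 4, 1, 1, 3, 3, 2, 0, 3, 0, 3, 0, 4, 1, 2, 1, 3, 1, 2, 0, 3, 0, 4, 1, 1, 4, 0, 0, 4, 4],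
   [2, 0, 4, 4, 0, 3, 1, 3, 2, 4, 1, 4, 1, 3, 3, 2, 1, 1, 4, 2, 4, 1, 4, 2, 1, 3, 0, 4, 0, 3, 0, 4, 1, 1, 2, 0, 3, 0, 4, 1, 1, 4, 0, 0, 4, 4],
   [2, 1, 1, 4, 1, 4, 1, 3, 0, 0, 3, 1, 1, 4, 0, 3, 1, 4, 2, 0, 3, 0, 4, 0, 0, 3, 0, 4, 2, 0, 3, 2, 0, 3, 1, 1, 3, 0, 0, 3, 1, 4, 1, 2, 0, 4],
   [4, 4, 0, 0, 3, 0, 4, 0, 0, 2, 0, 3, 1, 1, 4, 0, 3, 1, 4, 1, 3, 3, 2, 0, 3, 0, 3, 0, 4, 1, 2, 1, 3, 3, 1, 1, 3, 0, 0, 3, 1, 4, 1, 2, 0, 4],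
   [0, 0, 2, 1, 4, 4, 2, 1, 1, 1, 1, 1, 1, 4, 1, 3, 0, 4, 4, 0, 0, 4, 1, 4, 2, 1, 3, 0, 4, 0, 3, 0, 4, 1, 1, 2, 0, 3, 0, 4, 1, 1, 4, 0, 0, 4, 4],
   [4, 4, 0, 0, 3, 0, 4, 0, 0, 0, 0, 0, 2, 1, 4, 4, 2, 1, 1, 1, 1, 1, 1, 3, 3, 2, 0, 3, 3, 1, 3, 1, 2, 0, 3, 1, 1, 3, 0, 0, 3, 1, 4, 1, 2, 0, 4],
   [0, 0, 0, 4, 0, 2, 0, 0, 0, 0, 0, 3, 2, 0, 0, 3, 3, 1, 3, 3, 0, 2, 0, 4, 1, 4, 0, 0, 0, 3, 2, 1, 4, 0, 3, 1, 2, 0, 3, 0, 4, 1, 1, 4, 0, 0, 4, 4],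
   [4, 1, 4, 1, 4, 1, 3, 3, 2, 1, 3, 3, 0, 0, 0, 3, 1, 1, 2, 3, 1, 2, 0, 4, 0, 4, 4, 1, 4, 4, 2, 0, 0, 0, 3, 1, 2, 0, 3, 0, 4, 1, 1, 4, 0, 0, 4, 4],
   [0, 0, 0, 4, 0, 2, 0, 0, 0, 0, 0, 3, 2, 0, 4, 1, 3, 0, 0, 4, 1, 1, 4, 0, 4, 2, 1, 4, 4, 1, 4, 0, 3, 1, 1, 3, 1, 2, 0, 3, 0, 4, 1, 1, 4, 0, 0, 4, 4],
   [2, 0, 4, 4, 0, 3, 1, 3, 2, 3, 2, 0, 4, 1, 3, 0, 0, 4, 1, 2, 3, 1, 2, 0, 4, 0, 4, 4, 1, 4, 4, 2, 0, 0, 0, 3, 3, 1, 1, 3, 0, 0, 3, 1, 4, 1, 2, 0, 4],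
   [2, 1, 1, 4, 1, 4, 1, 3, 0, 2, 3, 2, 0, 0, 0, 0, 3, 0, 4, 1, 1, 4, 2, 0, 4, 1, 4, 0, 0, 0, 3, 2, 1, 4, 0, 3, 3, 1, 1, 3, 0, 0, 3, 1, 4, 1, 2, 0, 4],
   [4, 2, 0, 4, 1, 3, 3, 1, 2, 1, 1, 1, 1, 4, 1, 3, 0, 4, 4, 0, 2, 1, 4, 0, 4, 2, 1, 4, 4, 1, 4, 0, 3, 1, 1, 3, 3, 1, 1, 3, 0, 0, 3, 1, 4, 1, 2, 0, 4],
   [0, 0, 0, 4, 0, 2, 0, 0, 0, 0, 0, 3, 2, 0, 0, 0, 0, 3, 0, 4, 1, 1, 4, 2, 0, 4, 1, 4, 0, 0, 0, 3, 2, 1, 4, 0, 3, 1, 2, 0, 3, 0, 4, 1, 1, 4, 0, 0, 4, 4],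
   [0, 0, 2, 1, 4, 4, 2, 1, 1, 3, 3, 1, 4, 1, 1, 1, 3, 0, 3, 3, 0, 4, 4, 1, 4, 4, 2, 1, 3, 3, 0, 0, 3, 1, 4, 1, 3, 3, 1, 1, 3, 0, 0, 3, 1, 4, 1, 2, 0, 4],
   [4, 1, 4, 2, 0, 0, 0, 3, 1, 3, 0, 0, 0, 0, 2, 1, 4, 4, 2, 1, 1, 1, 2, 1, 3, 3, 2, 0, 3, 0, 3, 0, 4, 1, 2, 1, 3, 3, 1, 1, 3, 0, 0, 3, 1, 4, 1, 2, 0, 4],
   [4, 1, 4, 2, 0, 0, 0, 3, 1, 3, 0, 3, 3, 1, 4, 1, 1, 1, 3, 0, 3, 3, 0, 4, 1, 4, 1, 1, 3, 3, 1, 3, 0, 4, 1, 4, 1, 1, 2, 0, 3, 0, 4, 1, 1, 4, 0, 0, 4, 4],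
   [4, 4, 0, 0, 3, 0, 4, 0, 0, 4, 1, 4, 0, 0, 0, 3, 2, 1, 4, 0, 0, 0, 0, 4, 0, 3, 3, 2, 0, 0, 3, 1, 1, 3, 0, 0, 3, 3, 1, 1, 3, 0, 0, 3, 1, 4, 1, 2, 0, 4],
   [0, 0, 0, 4, 0, 2, 0, 0, 0, 0, 0, 2, 1, 4, 4, 0, 4, 4, 1, 1, 4, 2, 4, 4, 1, 4, 4, 2, 1, 3, 3, 0, 0, 3, 1, 4, 1, 3, 3, 1, 1, 3, 0, 0, 3, 1, 4, 1, 2, 0, 4],
   [4, 1, 4, 2, 0, 0, 0, 3, 1, 3, 0, 3, 2, 0, 0, 0, 0, 3, 0, 4, 1, 1, 4, 2, 0, 4, 1, 4, 2, 1, 3, 0, 4, 0, 3, 0, 4, 1, 3, 1, 1, 3, 0, 0, 3, 1, 4, 1, 2, 0, 4],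
   [4, 2, 0, 4, 1, 3, 3, 1, 2, 0, 3, 0, 4, 1, 1, 4, 0, 4, 2, 0, 4, 2, 3, 1, 2, 0, 4, 0, 4, 4, 1, 4, 4, 2, 0, 0, 0, 3, 3, 1, 1, 3, 0, 0, 3, 1, 4, 1, 2, 0, 4],
   [0, 0, 2, 1, 4, 4, 2, 1, 1, 3, 3, 2, 1, 3, 3, 0, 0, 0, 3, 1, 1, 2, 4, 1, 3, 1, 4, 2, 0, 0, 4, 4, 2, 0, 4, 0, 3, 0, 3, 1, 2, 0, 3, 0, 4, 1, 1, 4, 0, 0, 4, 4],
   [2, 1, 1, 4, 1, 4, 1, 3, 0, 2, 0, 3, 0, 4, 1, 1, 4, 0, 4, 2, 0, 4, 2, 0, 0, 4, 0, 3, 3, 2, 0, 0, 3, 1, 1, 3, 0, 0, 3, 1, 2, 0, 3, 0, 4, 1, 1, 4, 0, 0, 4, 4],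
   [0, 0, 0, 4, 0, 2, 0, 0, 0, 0, 0, 0, 3, 0, 4, 1, 1, 4, 0, 4, 2, 0, 4, 2, 3, 0, 3, 1, 4, 1, 3, 1, 4, 0, 3, 2, 0, 3, 1, 3, 3, 1, 1, 3, 0, 0, 3, 1, 4, 1, 2, 0, 4]]

def m9Q : List (List ℕ) :=
  [[],
   [4, 1, 4, 2, 0, 0, 0, 3, 1, 3, 0, 2, 0, 3, 1, 1, 4, 0, 3, 1, 4, 2, 1, 1, 1, 3, 3, 2, 0, 3, 3, 1, 3, 3, 0, 4, 1, 1, 4, 0, 0, 4, 4],
   [4, 2, 0, 4, 1, 3, 0, 4, 0, 0, 3, 0, 0, 4, 2, 0, 4, 1, 4, 0, 0, 0, 3, 2, 1, 4, 0],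
   [2, 0, 4, 4, 0, 3, 1, 3, 2, 3, 2, 0, 0, 3, 3, 1, 3, 3, 0, 2, 1, 1, 1, 3, 3, 2, 0, 3, 3, 1, 3, 1, 2, 0, 4],
   [2, 1, 1, 4, 1, 4, 1, 3, 0, 2, 3, 2, 0, 0, 0, 0, 3, 0, 4, 1, 1, 4, 2, 0, 4, 1, 4, 0, 0, 0, 3, 2, 1, 4, 0, 3, 3, 1, 1, 3, 0, 0, 3, 1, 4, 1, 2, 0, 4],
   [4, 1, 4, 1, 4, 1, 2, 0, 0, 4, 0, 4, 1, 3, 1, 3, 3, 2, 0, 3, 0, 4, 0, 0, 3, 0, 4, 2, 0, 3, 2, 0, 3, 1, 1, 3, 0, 0, 3, 1, 4, 1, 2, 0, 4],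
   [0, 0, 2, 1, 4, 4, 2, 1, 1, 2, 0, 0, 4, 0, 4, 1, 3, 1, 3, 3, 1, 3, 3, 2, 0, 3, 0, 3, 0, 4, 1, 2, 1],
   [0, 0, 0, 4, 0, 2, 0, 0, 0, 0, 0, 0, 0, 0, 2, 1, 4, 4, 2, 1, 1, 4, 1, 4, 0, 0, 0, 3, 2, 1, 4, 0]]

end Cfsg.Agent.Helper3
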