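import Cfsg.Agent.Helper3.Fam.D2882
import Cfsg.Agent.Helper3.Fam.Syl7

/-!
The Sylow 2-subgroups of the group of the length-24 code are self-normalizing: a Sylow
2-subgroup is the stabilizer of a sextet, a trio, an octad and a matching, and it fixes no
other sextet, trio or octad.
-/

set_option autoImplicit false

namespace Cfsg.Agent.Helper3

open Cfsg
open scoped Pointwise

theorem fam_fix_same {w l : List ℕ} (hl : ∀ m ∈ l, m < 2 ^ 24)
    (h : gWordPerm w • gFam l = gFam l) : gSameL (gPullL w l) l = true := by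
  have h1 : (gWordPerm w)⁻¹ • gFam l = gFam l := by
    rw [inv_smul_eq_iff]
    exact h.symm
  rw [pullL_smul] at h1
  refine same_of_gFam_eq ?_ hl h1
  intro m hm
  have hm' : m ∈ List.map (gPull (gWordAt w)) l := hm
  obtain ⟨m0, _, rfl⟩ := List.mem_map.1 hm'
  exact gPull_lt _ _

theorem arith_1024 (x : ℕ) (d1 : 1024 ∣ x) (d2 : x ∣ 3072) : x = 1024 ∨ x = 3072 := by
  obtain ⟨a, rfl⟩ := d1
  obtain ⟨b, hb⟩ := d2
  have h : 1024 * (a * b) = 3072 := by
    rw [← mul_assoc]
    exact hb.symm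
  have hab : a * b = 3 := by omega
  have ha : a ∣ 3 := ⟨b, hab.symm⟩
  have ha3 : a ≤ 3 := Nat.le_of_dvd (by norm_num) ha
  interval_cases a <;> omega

/-- a subgroup of index 3 which is not normal is self-normalizing in the larger group -/
theorem index3_self_norm (P B : Subgroup (Equiv.Perm GolayPt)) (hPB : P ≤ B)
    (hP : Nat.card ↥P = 1024) (hB : Nat.card ↥B = 3072)
    (b p : Equiv.Perm GolayPt) (hb : b ∈ B) (hp : p ∈ P) (hbp : b * p * b⁻¹ ∉ P)
    (n : Equiv.Perm GolayPt) (hnB : n ∈ B) (hnN : n ∈ Subgroup.normalizer (P : Set (Equiv.Perm GolayPt))) : n ∈ P := by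
  have hPN : P ≤ Subgroup.normalizer (P : Set (Equiv.Perm GolayPt)) ⊓ B := le_inf Subgroup.le_normalizer hPB
  have hNB : Subgroup.normalizer (P : Set (Equiv.Perm GolayPt)) ⊓ B ≤ B := inf_le_right
  have d1 := Subgroup.card_dvd_of_le hPN
  have d2 := Subgroup.card_dvd_of_le hNB
  rw [hP] at d1
  rw [hB] at d2
  have hcases : Nat.card ↥(Subgroup.normalizer (P : Set (Equiv.Perm GolayPt)) ⊓ B) = 1024 ∨
      Nat.card ↥(Subgroup.normalizer (P : Set (Equiv.Perm GolayPt)) ⊓ B) = 3072 := arith_1024 _ d1 d2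
  rcases hcases with h | h
  · have e : P = Subgroup.normalizer (P : Set (Equiv.Perm GolayPt)) ⊓ B :=
      Subgroup.eq_of_le_of_card_ge hPN (le_of_eq (by rw [h, hP]))
    rw [e]
    exact Subgroup.mem_inf.2 ⟨hnN, hnB⟩
  · exfalso
    have e : Subgroup.normalizer (P : Set (Equiv.Perm GolayPt)) ⊓ B = B :=
      Subgroup.eq_of_le_of_card_ge hNB (le_of_eq (by rw [h, hB]))
    have hb' : b ∈ Subgroup.normalizer (P : Set (Equiv.Perm GolayPt)) ⊓ B := by
      rw [e]
      exact hb
    exact hbp ((Subgroup.mem_normalizer_iff.1 (Subgroup.mem_inf.1 hb').1 p).1 hp)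

theorem fact_m24_2 : (244823040 : ℕ).factorization 2 = 10 := by
  have e : (244823040 : ℕ) = 2 ^ 10 * 239085 := by norm_num
  have h1 : ((2 : ℕ) ^ 10 * 239085).factorization =
      ((2 : ℕ) ^ 10).factorization + (239085 : ℕ).factorization :=
    Nat.factorization_mul (by norm_num) (by norm_num)
  have h2 : ((2 : ℕ) ^ 10).factorization = Finsupp.single 2 10 :=
    Nat.Prime.factorization_pow Nat.prime_two
  have h3 : (239085 : ℕ).factorization 2 = 0 :=
    Nat.factorization_eq_zero_of_not_dvd (by norm_num)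
  have h4 : (Finsupp.single 2 10 : ℕ →₀ ℕ) 2 = 10 := Finsupp.single_eq_same
  have h5 : ((2 : ℕ) ^ 10 * 239085).factorization 2 =
      ((2 : ℕ) ^ 10).factorization 2 + (239085 : ℕ).factorization 2 := by
    rw [h1, Finsupp.add_apply]
  rw [h2] at h5
  rw [e]
  omega

/-! ### the reference Sylow 2-subgroup -/

theorem p2G_mem : ∀ w ∈ p2G, gWordPerm w ∈ fSub [p2L, p22X, p21X, sxX] 0 := by
  have h : p2G.all (fWordOK [p2L, p22X, p21X, sxX] 0) = true := by decide +kernel
  intro w hw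
  exact fWordOK_mem (List.all_eq_true.1 h w hw)

theorem sx_orb_ok : aOrbOK [] m24G sxX 6 192 sxA 1771 = true := by decide +kernel

theorem tr_orb_ok : aOrbOK [] m24G trX 3 120 trA 3795 = true := by decide +kernel

theorem p2_sext_chk : gAllR 1771 (fun i => gSameL (gDecL 6 (aCode 192 sxA i)) sxX ||
    p2G.any (fun w => !(gSameL (gPullL w (gDecL 6 (aCode 192 sxA i)))
      (gDecL 6 (aCode 192 sxA i))))) = true := by decide +kernel

theorem p2_sext_unique {S : Finset (Finset GolayPt)} (hS : S ∈ sextets)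
    (hfix : ∀ p ∈ fSub [p2L, p22X, p21X, sxX] 0, p • S = S) : S = gFam sxX := by
  rw [sextets_eq, aOrb_enum sx_orb_ok sx_ok.1] at hS
  obtain ⟨i, hi, rfl⟩ := hS
  have h : (gSameL (gDecL 6 (aCode 192 sxA i)) sxX ||
      p2G.any (fun w => !(gSameL (gPullL w (gDecL 6 (aCode 192 sxA i)))
        (gDecL 6 (aCode 192 sxA i))))) = true := (gAllR_iff _ _).1 p2_sext_chk i hi
  rw [Bool.or_eq_true] at h
  rcases h with h | h
  · exact gFam_eq_of_same h
  · exfalso
    rw [List.any_eq_true] at h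
    obtain ⟨w, hw, hw2⟩ := h
    have hw2' : (!(gSameL (gPullL w (gDecL 6 (aCode 192 sxA i)))
        (gDecL 6 (aCode 192 sxA i)))) = true := hw2
    have h3 := fam_fix_same (gDecL_lt 6 _) (hfix _ (p2G_mem w hw))
    rw [h3] at hw2'
    exact absurd hw2' (by decide)

theorem p2_trio_chk : gAllR 3795 (fun i => gSameL (gDecL 3 (aCode 120 trA i)) p21X ||
    p2G.any (fun w => !(gSameL (gPullL w (gDecL 3 (aCode 120 trA i)))
      (gDecL 3 (aCode 120 trA i))))) = true := by decide +kernel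

theorem p2_trio_unique {T : Finset (Finset GolayPt)} (hT : T ∈ trios)
    (hfix : ∀ p ∈ fSub [p2L, p22X, p21X, sxX] 0, p • T = T) : T = gFam p21X := by
  have hT' : T ∈ fOrb [] (gFam trX) := by
    obtain ⟨g, hg, rfl⟩ := trio_trans hT
    refine ⟨g, ?_, rfl⟩
    rw [fSub_nil]
    exact hg
  rw [aOrb_enum tr_orb_ok tr_ok.1] at hT'
  obtain ⟨i, hi, rfl⟩ := hT'
  have h : (gSameL (gDecL 3 (aCode 120 trA i)) p21X ||
      p2G.any (fun w => !(gSameL (gPullL w (gDecL 3 (aCode 120 trA i)))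
        (gDecL 3 (aCode 120 trA i))))) = true := (gAllR_iff _ _).1 p2_trio_chk i hi
  rw [Bool.or_eq_true] at h
  rcases h with h | h
  · exact gFam_eq_of_same h
  · exfalso
    rw [List.any_eq_true] at h
    obtain ⟨w, hw, hw2⟩ := h
    have hw2' : (!(gSameL (gPullL w (gDecL 3 (aCode 120 trA i)))
        (gDecL 3 (aCode 120 trA i)))) = true := hw2
    have h3 := fam_fix_same (gDecL_lt 3 _) (hfix _ (p2G_mem w hw))
    rw [h3] at hw2'
    exact absurd hw2' (by decide)

theorem p2_oct_chk : octList.all (fun o => Nat.blt o 16777216 && (Nat.beq o 5279 ||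
    p2G.any (fun w => !(Nat.beq (gPull (gWordAt w) o) o)))) = true := by decide +kernel

theorem p2_oct_unique {O : Finset GolayPt} (hO : O ∈ octads)
    (hfix : ∀ p ∈ fSub [p2L, p22X, p21X, sxX] 0, p • O = O) : O = gSupp 5279 := by
  obtain ⟨o, ho, rfl⟩ := (mem_octads_iff_list O).1 hO
  have h : (Nat.blt o 16777216 && (Nat.beq o 5279 ||
      p2G.any (fun w => !(Nat.beq (gPull (gWordAt w) o) o)))) = true :=
    List.all_eq_true.1 p2_oct_chk o ho
  rw [Bool.and_eq_true, Bool.or_eq_true] at h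
  obtain ⟨hlt, h2⟩ := h
  have hlt' : o < 2 ^ 24 := by
    have := Nat.le_of_ble_eq_true hlt
    omega
  rcases h2 with h2 | h2
  · rw [Nat.eq_of_beq_eq_true h2]
  · exfalso
    rw [List.any_eq_true] at h2
    obtain ⟨w, hw, hw2⟩ := h2
    have hw2' : (!(Nat.beq (gPull (gWordAt w) o) o)) = true := hw2
    have e := pull_smul w o
    have e2 : (gWordPerm w)⁻¹ • gSupp o = gSupp o := by
      rw [inv_smul_eq_iff]
      exact (hfix _ (p2G_mem w hw)).symm
    rw [e2] at e
    have e3 : o = gPull (gWordAt w) o := gSupp_inj hlt' (gPull_lt _ _) e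
    rw [← e3, Nat.beq_refl] at hw2'
    exact absurd hw2' (by decide)

theorem p21_mem : gFam p21X ∈ trios := trioOK_mem (by decide +kernel)

theorem p2_norm_le_B (n : Equiv.Perm GolayPt) (hn : n ∈ M24)
    (hN : n ∈ Subgroup.normalizer ((fSub [p2L, p22X, p21X, sxX] 0 :
      Subgroup (Equiv.Perm GolayPt)) : Set (Equiv.Perm GolayPt))) :
    n ∈ fSub [p22X, p21X, sxX] 0 := by
  have key : ∀ {β : Type} [MulAction (Equiv.Perm GolayPt) β] (x : β),
      (∀ p ∈ fSub [p2L, p22X, p21X, sxX] 0, p • x = x) →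
      ∀ p ∈ fSub [p2L, p22X, p21X, sxX] 0, p • (n⁻¹ • x) = n⁻¹ • x := by
    intro β _ x hx p hp
    have h1 : n * p * n⁻¹ ∈ fSub [p2L, p22X, p21X, sxX] 0 :=
      (Subgroup.mem_normalizer_iff.1 hN p).1 hp
    have h2 := hx _ h1
    rw [mul_smul, mul_smul] at h2
    exact eq_inv_smul_iff.2 h2
  have hni : n⁻¹ ∈ M24 := M24.inv_mem hn
  have hS : n • gFam sxX = gFam sxX := by
    have h := p2_sext_unique (smul_mem_sextets hni sxX_mem)
      (key (gFam sxX) (fun p hp => hp.2.1 sxX (by simp)))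
    exact (inv_smul_eq_iff.1 h).symm
  have hT : n • gFam p21X = gFam p21X := by
    have h := p2_trio_unique (smul_mem_trios hni p21_mem)
      (key (gFam p21X) (fun p hp => hp.2.1 p21X (by simp)))
    exact (inv_smul_eq_iff.1 h).symm
  have hO : n • gSupp 5279 = gSupp 5279 := by
    have h := p2_oct_unique (smul_mem_octads hni (gOctB_mem (m := 5279) (by decide +kernel)))
      (key (gSupp 5279) (fun p hp => (fam_set_fix p 5279).1 (hp.2.1 p22X (by simp))))
    exact (inv_smul_eq_iff.1 h).symm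
  refine ⟨hn, ?_, ptFix_zero n⟩
  intro A hA
  simp only [List.mem_cons, List.mem_nil_iff, or_false] at hA
  rcases hA with rfl | rfl | rfl
  · exact (fam_set_fix n 5279).2 hO
  · exact hT
  · exact hS

theorem conj_word_mem (P : Subgroup (Equiv.Perm GolayPt)) (b p bi : Equiv.Perm GolayPt)
    (hb : b * bi = 1) (h : b * p * b⁻¹ ∈ P) : b * p * bi ∈ P := by
  have e : b⁻¹ = bi := inv_eq_of_mul_eq_one_right hb
  rw [← e]
  exact h

theorem word3_mem (P : Subgroup (Equiv.Perm GolayPt)) (w1 w2 w3 : List ℕ)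
    (h : gWordPerm w1 * gWordPerm w2 * gWordPerm w3 ∈ P) : gWordPerm (w1 ++ w2 ++ w3) ∈ P := by
  rw [gWordPerm_app, gWordPerm_app]
  exact h

theorem p2_self_norm (n : Equiv.Perm GolayPt) (hn : n ∈ M24)
    (hN : n ∈ Subgroup.normalizer ((fSub [p2L, p22X, p21X, sxX] 0 :
      Subgroup (Equiv.Perm GolayPt)) : Set (Equiv.Perm GolayPt))) :
    n ∈ fSub [p2L, p22X, p21X, sxX] 0 := by
  have hPB : fSub [p2L, p22X, p21X, sxX] 0 ≤ fSub [p22X, p21X, sxX] 0 := by
    intro x hx
    exact ⟨hx.1, fun A hA => hx.2.1 A (List.mem_cons_of_mem _ hA), hx.2.2⟩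
  have hBB : gWordPerm p2B * gWordPerm p2Bi = 1 := by
    rw [← gWordPerm_app]
    exact (gWordEq_sound (by decide +kernel)).trans gWordPerm_nil
  refine index3_self_norm _ _ hPB p2p_ok.2 p22_ok.2 (gWordPerm p2B) (gWordPerm p2P)
    (fWordOK_mem (by decide +kernel)) (fWordOK_mem (by decide +kernel)) ?_ n
    (p2_norm_le_B n hn hN) hN
  intro h1
  have h1' : gWordPerm (p2B ++ p2P ++ p2Bi) ∈ fSub [p2L, p22X, p21X, sxX] 0 :=
    word3_mem _ _ _ _ (conj_word_mem _ _ _ _ hBB h1)
  have hmem : ∀ g : Equiv.Perm GolayPt, g ∈ fSub [p2L, p22X, p21X, sxX] 0 →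
      g • gFam p2L = gFam p2L := fun g hg => hg.2.1 p2L List.mem_cons_self
  have hlt : ∀ m ∈ p2L, m < 2 ^ 24 := by decide +kernel
  have h3 := fam_fix_same hlt (hmem _ h1')
  have h4 : gSameL (gPullL (p2B ++ p2P ++ p2Bi) p2L) p2L = false := by decide +kernel
  rw [h4] at h3
  exact absurd h3 (by decide)

/-- every Sylow 2-subgroup of the group of the length-24 code is self-normalizing -/
theorem syl2_self_norm (S : Sylow 2 ↥M24) :
    Subgroup.normalizer ((S : Subgroup ↥M24) : Set ↥M24) = (S : Subgroup ↥M24) := by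
  haveI : Fact (Nat.Prime 2) := ⟨Nat.prime_two⟩
  have hf : (Nat.card ↥M24).factorization 2 = 10 := by
    rw [M24_card]
    exact fact_m24_2
  have e10 : (2 : ℕ) ^ 10 = 1024 := by norm_num
  have hP0c : Nat.card ↥((fSub [p2L, p22X, p21X, sxX] 0).subgroupOf M24) = 1024 := by
    rw [Nat.card_congr (Subgroup.subgroupOfEquivOfLe (fSub_le _ 0)).toEquiv]
    exact p2p_ok.2
  have hP0 : Nat.card ↥((fSub [p2L, p22X, p21X, sxX] 0).subgroupOf M24) =
      2 ^ (Nat.card ↥M24).factorization 2 := by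
    rw [hf, e10, hP0c]
  have hN0 : Subgroup.normalizer
      (((fSub [p2L, p22X, p21X, sxX] 0).subgroupOf M24 : Subgroup ↥M24) : Set ↥M24) ≤
      (fSub [p2L, p22X, p21X, sxX] 0).subgroupOf M24 := by
    intro n hn
    rw [Subgroup.mem_subgroupOf]
    apply p2_self_norm (n : Equiv.Perm GolayPt) n.2
    rw [Subgroup.mem_normalizer_iff]
    intro p
    by_cases hp : p ∈ M24
    · have h := Subgroup.mem_normalizer_iff.1 hn ⟨p, hp⟩
      rw [Subgroup.mem_subgroupOf, Subgroup.mem_subgroupOf] at h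
      exact h
    · constructor
      · intro h
        exact absurd (fSub_le _ 0 h) hp
      · intro h
        exfalso
        apply hp
        have h1 : (n : Equiv.Perm GolayPt) * p * (n : Equiv.Perm GolayPt)⁻¹ ∈ M24 :=
          fSub_le _ 0 h
        have e : p = (n : Equiv.Perm GolayPt)⁻¹ *
            ((n : Equiv.Perm GolayPt) * p * (n : Equiv.Perm GolayPt)⁻¹) *
            (n : Equiv.Perm GolayPt) := by
          simp only [mul_assoc, inv_mul_cancel_left, inv_mul_cancel, mul_one]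
        rw [e]
        exact M24.mul_mem (M24.mul_mem (M24.inv_mem n.2) h1) n.2
  have hN0eq : Subgroup.normalizer
      (((fSub [p2L, p22X, p21X, sxX] 0).subgroupOf M24 : Subgroup ↥M24) : Set ↥M24) =
      (fSub [p2L, p22X, p21X, sxX] 0).subgroupOf M24 := le_antisymm hN0 Subgroup.le_normalizer
  have hS : Nat.card ↥(S : Subgroup ↥M24) = 1024 := by
    have h := Sylow.card_eq_multiplicity S
    rw [hf, e10] at h
    exact h
  have hidx1 : Nat.card (Sylow 2 ↥M24) =
      (Subgroup.normalizer ((S : Subgroup ↥M24) : Set ↥M24)).index :=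
    Sylow.card_eq_index_normalizer S
  have hidx2 : Nat.card (Sylow 2 ↥M24) = (Subgroup.normalizer
      (((fSub [p2L, p22X, p21X, sxX] 0).subgroupOf M24 : Subgroup ↥M24) : Set ↥M24)).index :=
    Sylow.card_eq_index_normalizer (Sylow.ofCard _ hP0)
  rw [hN0eq] at hidx2
  have c1 := Subgroup.card_mul_index (Subgroup.normalizer ((S : Subgroup ↥M24) : Set ↥M24))
  have c2 := Subgroup.card_mul_index ((fSub [p2L, p22X, p21X, sxX] 0).subgroupOf M24)
  rw [← hidx1] at c1
  rw [← hidx2, hP0c, ← c1] at c2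
  have hpos : 0 < Nat.card (Sylow 2 ↥M24) := Nat.card_pos
  have hNS : Nat.card ↥(Subgroup.normalizer ((S : Subgroup ↥M24) : Set ↥M24)) = 1024 :=
    (Nat.eq_of_mul_eq_mul_right hpos c2).symm
  exact (Subgroup.eq_of_le_of_card_ge Subgroup.le_normalizer
    (le_of_eq (by rw [hNS, hS]))).symm

end Cfsg.Agent.Helper3
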